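import Mathlib
import Cfsg.Agent.Helper71.BSW.Defs

/-!
# (A1b) for odd `ℓ ∣ |K|` every `ℓ`-subgroup of `G` is conjugate into `K` (piece for S3282, helper71)
-/

set_option autoImplicit false

namespace Cfsg.Agent.Helper48.BSW

open Cfsg.Agent.Helper71.BSW

/-- core: for odd `ℓ ∣ |K|` some Sylow `ℓ`-subgroup of `G` lies in `K`. -/
theorem exists_sylow_le_K {G : Type*} [Group G] [Finite G] {t s : G} {K : Subgroup G}
    (h : Hyp t s K) (A : FactsA0 t s K) (ℓ : ℕ) [hℓ : Fact ℓ.Prime] (hℓ2 : ℓ ≠ 2)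
    (hℓK : ℓ ∣ Nat.card K) : ∃ L : Sylow ℓ G, (L : Subgroup G) ≤ K := by
  -- an element of order `ℓ` in `K`
  obtain ⟨y0, hy0⟩ := exists_prime_orderOf_dvd_card' (G := K) ℓ hℓK
  have hyK : (y0 : G) ∈ K := y0.2
  have hyord : orderOf (y0 : G) = ℓ := by rw [Subgroup.orderOf_coe]; exact hy0
  have hy1 : (y0 : G) ≠ 1 := by
    intro h1
    rw [h1, orderOf_one] at hyord
    exact hℓ.out.one_lt.ne hyord
  have hyt : (y0 : G) ≠ t := by
    intro h1
    rw [h1, h.ht] at hyord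
    exact hℓ2 hyord.symm
  have hCy := A.cent_eq_K _ hyK hy1 hyt
  -- a Sylow subgroup containing it
  have hP : IsPGroup ℓ ↥(Subgroup.zpowers (y0 : G)) :=
    IsPGroup.of_card (n := 1) (by rw [Nat.card_zpowers, hyord, pow_one])
  obtain ⟨L, hL⟩ := hP.exists_le_sylow
  have hyL : (y0 : G) ∈ (L : Subgroup G) := hL (Subgroup.mem_zpowers _)
  refine ⟨L, ?_⟩
  have hnt : Nontrivial ↥(L : Subgroup G) :=
    ⟨⟨⟨(y0 : G), hyL⟩, 1, fun hh => hy1 (congrArg Subtype.val hh)⟩⟩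
  have hcnt : Nontrivial ↥(Subgroup.center ↥(L : Subgroup G)) := L.isPGroup'.center_nontrivial
  obtain ⟨z, hz⟩ := exists_ne (1 : ↥(Subgroup.center ↥(L : Subgroup G)))
  have hz1 : ((z : ↥(L : Subgroup G)) : G) ≠ 1 := by
    intro h1
    apply hz
    apply Subtype.ext
    apply Subtype.ext
    exact h1
  have hzc : ∀ x : ↥(L : Subgroup G), x * (z : ↥(L : Subgroup G)) = (z : ↥(L : Subgroup G)) * x :=
    fun x => Subgroup.mem_center_iff.mp z.2 x
  -- `z` commutes with `y`, so `z ∈ K`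
  have hzy : ((z : ↥(L : Subgroup G)) : G) * (y0 : G) = (y0 : G) * ((z : ↥(L : Subgroup G)) : G) := by
    have := congrArg Subtype.val (hzc ⟨(y0 : G), hyL⟩)
    exact this.symm
  have hzK : ((z : ↥(L : Subgroup G)) : G) ∈ K := by
    rw [← hCy, Subgroup.mem_centralizer_singleton_iff]
    exact hzy
  have hzt : ((z : ↥(L : Subgroup G)) : G) ≠ t := by
    intro h1
    obtain ⟨k, hk⟩ := L.isPGroup' (z : ↥(L : Subgroup G))
    have hk' : ((z : ↥(L : Subgroup G)) : G) ^ ℓ ^ k = 1 := by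
      have := congrArg Subtype.val hk
      simpa using this
    rw [h1] at hk'
    have hdvd : 2 ∣ ℓ ^ k := by
      rw [← h.ht]
      exact orderOf_dvd_of_pow_eq_one hk'
    have h2 : 2 ∣ ℓ := Nat.Prime.dvd_of_dvd_pow Nat.prime_two hdvd
    exact hℓ2 ((Nat.prime_dvd_prime_iff_eq Nat.prime_two hℓ.out).mp h2).symm
  have hCz := A.cent_eq_K _ hzK hz1 hzt
  intro x hx
  rw [← hCz, Subgroup.mem_centralizer_singleton_iff]
  exact congrArg Subtype.val (hzc ⟨x, hx⟩)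

/-- (A1b) for odd `ℓ ∣ |K|` every `ℓ`-subgroup of `G` is conjugate into `K`. -/
theorem a1_sylow_into_K {G : Type*} [Group G] [Finite G] {t s : G} {K : Subgroup G}
    (h : Hyp t s K) (A : FactsA0 t s K) :
    ∀ ℓ : ℕ, ℓ.Prime → ℓ ≠ 2 → ℓ ∣ Nat.card K → ∀ B : Subgroup G, IsPGroup ℓ B →
    ∃ x : G, B.map (MulAut.conj x).toMonoidHom ≤ K := by
  intro ℓ hℓ hℓ2 hℓK B hB
  have hfact : Fact ℓ.Prime := ⟨hℓ⟩
  obtain ⟨L, hLK⟩ := exists_sylow_le_K h A ℓ hℓ2 hℓK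
  obtain ⟨Q, hBQ⟩ := hB.exists_le_sylow
  obtain ⟨g, hg⟩ := MulAction.exists_smul_eq G Q L
  refine ⟨g, ?_⟩
  rintro _ ⟨b, hb, rfl⟩
  apply hLK
  rw [← hg, Sylow.coe_subgroup_smul]
  exact Subgroup.smul_mem_pointwise_smul b (MulAut.conj g) (Q : Subgroup G) (hBQ hb)

end Cfsg.Agent.Helper48.BSW
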