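import Mathlib
import Cfsg.Agent.Helper71.BSW.Defs
import Cfsg.Agent.Helper48.BSW.A1b

/-!
# (A1a) `C(t)` is a Hall subgroup of `G` (piece for S3282, helper71)
-/

set_option autoImplicit false

namespace Cfsg.Agent.Helper48.BSW

open Cfsg.Agent.Helper71.BSW

/-- some Sylow `2`-subgroup of `G` has order dividing `|C(t)|`. -/
theorem exists_sylow_two_card_dvd {G : Type*} [Group G] [Finite G] {t s : G} {K : Subgroup G}
    (h : Hyp t s K) :
    ∃ S : Sylow 2 G, Nat.card ↥(S : Subgroup G) ∣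
      Nat.card ↥(Subgroup.centralizer ({t} : Set G)) := by
  have hfact : Fact (Nat.Prime 2) := ⟨Nat.prime_two⟩
  have ht1 : t ≠ 1 := by
    intro h1
    have := h.ht
    rw [h1, orderOf_one] at this
    omega
  have hP : IsPGroup 2 ↥(Subgroup.zpowers t) :=
    IsPGroup.of_card (n := 1) (by rw [Nat.card_zpowers, h.ht, pow_one])
  obtain ⟨S, hS⟩ := hP.exists_le_sylow
  have htS : t ∈ (S : Subgroup G) := hS (Subgroup.mem_zpowers _)
  have hnt : Nontrivial ↥(S : Subgroup G) :=
    ⟨⟨⟨t, htS⟩, 1, fun hh => ht1 (congrArg Subtype.val hh)⟩⟩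
  have hcnt : Nontrivial ↥(Subgroup.center ↥(S : Subgroup G)) := S.isPGroup'.center_nontrivial
  -- an involution in the centre of `S`
  have hcp : IsPGroup 2 ↥(Subgroup.center ↥(S : Subgroup G)) :=
    S.isPGroup'.to_subgroup _
  have h2dvd : 2 ∣ Nat.card ↥(Subgroup.center ↥(S : Subgroup G)) := by
    rcases hcp.card_eq_or_dvd with h1 | h2
    · exfalso
      have := Finite.one_lt_card (α := ↥(Subgroup.center ↥(S : Subgroup G)))
      omega
    · exact h2
  obtain ⟨v, hv⟩ := exists_prime_orderOf_dvd_card' (G := ↥(Subgroup.center ↥(S : Subgroup G))) 2 h2dvd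
  have hvord : orderOf (((v : ↥(S : Subgroup G)) : G)) = 2 := by
    rw [Subgroup.orderOf_coe, Subgroup.orderOf_coe]
    exact hv
  have hvc : ∀ x : ↥(S : Subgroup G), x * (v : ↥(S : Subgroup G)) = (v : ↥(S : Subgroup G)) * x :=
    fun x => Subgroup.mem_center_iff.mp v.2 x
  -- conjugate it to `t`
  obtain ⟨c, hc⟩ := isConj_iff.mp (h.hconj _ _ hvord h.ht)
  refine ⟨S, ?_⟩
  have hle : (S : Subgroup G).map (MulAut.conj c).toMonoidHom ≤
      Subgroup.centralizer ({t} : Set G) := by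
    rintro _ ⟨x, hx, rfl⟩
    rw [Subgroup.mem_centralizer_singleton_iff]
    have hxv : x * ((v : ↥(S : Subgroup G)) : G) = ((v : ↥(S : Subgroup G)) : G) * x :=
      congrArg Subtype.val (hvc ⟨x, hx⟩)
    show c * x * c⁻¹ * t = t * (c * x * c⁻¹)
    rw [← hc]
    calc c * x * c⁻¹ * (c * ((v : ↥(S : Subgroup G)) : G) * c⁻¹)
        = c * (x * ((v : ↥(S : Subgroup G)) : G)) * c⁻¹ := by group
      _ = c * (((v : ↥(S : Subgroup G)) : G) * x) * c⁻¹ := by rw [hxv]
      _ = c * ((v : ↥(S : Subgroup G)) : G) * c⁻¹ * (c * x * c⁻¹) := by group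
  have hcard : Nat.card ↥((S : Subgroup G).map (MulAut.conj c).toMonoidHom) =
      Nat.card ↥(S : Subgroup G) :=
    Subgroup.card_map_of_injective (MulAut.conj c).injective
  rw [← hcard]
  exact Subgroup.card_dvd_of_le hle

/-- (A1a) `C(t)` is a Hall subgroup of `G`. -/
theorem a1_coprime_index {G : Type*} [Group G] [Finite G] {t s : G} {K : Subgroup G}
    (h : Hyp t s K) (A : FactsA0 t s K) :
    (Nat.card G / (2 * Nat.card K)).Coprime (2 * Nat.card K) := by
  have hcdvd : 2 * Nat.card K ∣ Nat.card G := by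
    rw [← A.card_cent_t]
    exact Subgroup.card_subgroup_dvd_card _
  by_contra hnc
  obtain ⟨ℓ, hℓ, hℓ1, hℓ2⟩ := Nat.Prime.not_coprime_iff_dvd.mp hnc
  have hfact : Fact ℓ.Prime := ⟨hℓ⟩
  -- the full `ℓ`-part of `|G|` divides `2k`
  have hpow : ℓ ^ (Nat.card G).factorization ℓ ∣ 2 * Nat.card K := by
    by_cases h2 : ℓ = 2
    · subst h2
      obtain ⟨S, hS⟩ := exists_sylow_two_card_dvd h
      rw [S.card_eq_multiplicity, A.card_cent_t] at hS
      exact hS
    · have hℓK : ℓ ∣ Nat.card K := by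
        rcases (Nat.Prime.dvd_mul hℓ).mp hℓ2 with h3 | h3
        · exact absurd ((Nat.prime_dvd_prime_iff_eq hℓ Nat.prime_two).mp h3) h2
        · exact h3
      obtain ⟨L, hL⟩ := exists_sylow_le_K h A ℓ h2 hℓK
      have h4 := Subgroup.card_dvd_of_le hL
      rw [L.card_eq_multiplicity] at h4
      exact dvd_trans h4 (dvd_mul_left _ _)
  have hbad : ℓ ^ ((Nat.card G).factorization ℓ + 1) ∣ Nat.card G := by
    rw [pow_succ]
    calc ℓ ^ (Nat.card G).factorization ℓ * ℓ ∣ (2 * Nat.card K) * (Nat.card G / (2 * Nat.card K)) :=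
          Nat.mul_dvd_mul hpow hℓ1
      _ = Nat.card G := Nat.mul_div_cancel' hcdvd
  exact Nat.pow_succ_factorization_not_dvd Nat.card_pos.ne' hℓ hbad

end Cfsg.Agent.Helper48.BSW
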