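import Mathlib
import Cfsg.Agent.Helper71.BSW.Defs

/-!
# (D1) plus case: `N(C(z)) = C(z) ⊔ K` for a suitable `q`-element `z` (piece for S3282, helper71)
-/

set_option autoImplicit false

namespace Cfsg.Agent.Helper48.BSW

open Cfsg.Agent.Helper71.BSW

/-- centralizer of a conjugate -/
theorem centralizer_conj_eq_map {G : Type*} [Group G] (u g : G) :
    Subgroup.centralizer ({u * g * u⁻¹} : Set G) =
      (Subgroup.centralizer ({g} : Set G)).map (MulAut.conj u).toMonoidHom := by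
  ext y
  rw [Subgroup.mem_centralizer_singleton_iff, Subgroup.mem_map]
  constructor
  · intro hy
    refine ⟨u⁻¹ * y * u, ?_, ?_⟩
    · rw [Subgroup.mem_centralizer_singleton_iff]
      calc u⁻¹ * y * u * g = u⁻¹ * (y * (u * g * u⁻¹)) * u := by group
        _ = u⁻¹ * ((u * g * u⁻¹) * y) * u := by rw [hy]
        _ = g * (u⁻¹ * y * u) := by group
    · show u * (u⁻¹ * y * u) * u⁻¹ = y
      group
  · rintro ⟨x, hx, rfl⟩
    rw [Subgroup.mem_centralizer_singleton_iff] at hx
    show u * x * u⁻¹ * (u * g * u⁻¹) = u * g * u⁻¹ * (u * x * u⁻¹)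
    calc u * x * u⁻¹ * (u * g * u⁻¹) = u * (x * g) * u⁻¹ := by group
      _ = u * (g * x) * u⁻¹ := by rw [hx]
      _ = u * g * u⁻¹ * (u * x * u⁻¹) := by group

/-- an involution normalizing a finite subgroup without nontrivial fixed points inverts it -/
theorem inverts_of_normalizes {G : Type*} [Group G] (Q : Subgroup G) [Finite Q] (b : G)
    (hb : b * b = 1) (hn : ∀ x ∈ Q, b * x * b⁻¹ ∈ Q)
    (hfix : Q ⊓ Subgroup.centralizer ({b} : Set G) = ⊥) : ∀ x ∈ Q, b * x * b⁻¹ = x⁻¹ := by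
  classical
  have hbinv : b⁻¹ = b := inv_eq_of_mul_eq_one_right hb
  have hmem : ∀ k : Q, (k : G)⁻¹ * (b * k * b⁻¹) ∈ Q :=
    fun k => Q.mul_mem (Q.inv_mem k.2) (hn k.1 k.2)
  let f : Q → Q := fun k => ⟨(k : G)⁻¹ * (b * k * b⁻¹), hmem k⟩
  have hinj : Function.Injective f := by
    intro k l hkl
    have h1 : (k : G)⁻¹ * (b * k * b⁻¹) = (l : G)⁻¹ * (b * l * b⁻¹) := congrArg Subtype.val hkl
    have h2 : (l : G) * (k : G)⁻¹ ∈ Q ⊓ Subgroup.centralizer ({b} : Set G) := by
      refine Subgroup.mem_inf.2 ⟨Q.mul_mem l.2 (Q.inv_mem k.2), ?_⟩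
      rw [Subgroup.mem_centralizer_singleton_iff]
      have h3 : (k : G)⁻¹ * b * k = (l : G)⁻¹ * b * l := by
        calc (k : G)⁻¹ * b * k = ((k : G)⁻¹ * (b * k * b⁻¹)) * b := by group
          _ = ((l : G)⁻¹ * (b * l * b⁻¹)) * b := by rw [h1]
          _ = (l : G)⁻¹ * b * l := by group
      calc (l : G) * (k : G)⁻¹ * b = l * ((k : G)⁻¹ * b * k) * (k : G)⁻¹ := by group
        _ = l * ((l : G)⁻¹ * b * l) * (k : G)⁻¹ := by rw [h3]
        _ = b * (l * (k : G)⁻¹) := by group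
    rw [hfix, Subgroup.mem_bot] at h2
    apply Subtype.ext
    exact (mul_inv_eq_one.mp h2).symm
  have hsurj : Function.Surjective f := Finite.surjective_of_injective hinj
  intro k hk
  obtain ⟨l, hl⟩ := hsurj ⟨k, hk⟩
  have hk' : k = (l : G)⁻¹ * (b * l * b⁻¹) := (congrArg Subtype.val hl).symm
  rw [hk', hbinv]
  apply eq_inv_of_mul_eq_one_left
  calc b * ((l : G)⁻¹ * (b * l * b)) * b * ((l : G)⁻¹ * (b * l * b))
      = b * (l : G)⁻¹ * b * l * (b * b) * (l : G)⁻¹ * b * l * b := by group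
    _ = b * (l : G)⁻¹ * b * l * (l : G)⁻¹ * b * l * b := by rw [hb, mul_one]
    _ = b * (l : G)⁻¹ * (b * b) * l * b := by group
    _ = b * (l : G)⁻¹ * l * b := by rw [hb, mul_one]
    _ = b * b := by group
    _ = 1 := hb

/-- Schur–Zassenhaus inside the normalizer -/
theorem exists_complement_in_normalizer {G : Type*} [Group G] [Finite G] (Q : Subgroup G)
    (hcop : (Nat.card Q).Coprime (Nat.card (Subgroup.normalizer (Q : Set G)) / Nat.card Q)) :
    ∃ D : Subgroup G, D ≤ Subgroup.normalizer (Q : Set G) ∧ Q ⊓ D = ⊥ ∧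
      Q ⊔ D = Subgroup.normalizer (Q : Set G) ∧
      Nat.card Q * Nat.card D = Nat.card (Subgroup.normalizer (Q : Set G)) := by
  have hQN : Q ≤ Subgroup.normalizer (Q : Set G) := Subgroup.le_normalizer
  have hnorm : (Q.subgroupOf (Subgroup.normalizer (Q : Set G))).Normal :=
    Subgroup.normal_in_normalizer
  have hcardQ' : Nat.card (Q.subgroupOf (Subgroup.normalizer (Q : Set G))) = Nat.card Q :=
    Nat.card_congr (Subgroup.subgroupOfEquivOfLe hQN).toEquiv
  have hidx : (Q.subgroupOf (Subgroup.normalizer (Q : Set G))).index =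
      Nat.card (Subgroup.normalizer (Q : Set G)) / Nat.card Q := by
    have h1 := (Q.subgroupOf (Subgroup.normalizer (Q : Set G))).index_mul_card
    rw [hcardQ'] at h1
    rw [← h1, Nat.mul_div_cancel _ Nat.card_pos]
  obtain ⟨D0, hD0⟩ := Subgroup.exists_right_complement'_of_coprime
    (N := Q.subgroupOf (Subgroup.normalizer (Q : Set G))) (by rw [hcardQ', hidx]; exact hcop)
  refine ⟨D0.map (Subgroup.normalizer (Q : Set G)).subtype, ?_, ?_, ?_, ?_⟩
  · rintro _ ⟨x, _, rfl⟩
    exact x.2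
  · rw [eq_bot_iff]
    rintro g ⟨hgQ, ⟨x, hx, rfl⟩⟩
    have hx2 : x ∈ Q.subgroupOf (Subgroup.normalizer (Q : Set G)) ⊓ D0 :=
      ⟨Subgroup.mem_subgroupOf.mpr hgQ, hx⟩
    rw [hD0.disjoint.eq_bot, Subgroup.mem_bot] at hx2
    rw [Subgroup.mem_bot, hx2]
    rfl
  · have h1 := hD0.sup_eq_top
    have h2 := congrArg (Subgroup.map (Subgroup.normalizer (Q : Set G)).subtype) h1
    rw [Subgroup.map_sup, Subgroup.map_subgroupOf_eq_of_le hQN, ← MonoidHom.range_eq_map,
      Subgroup.range_subtype] at h2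
    exact h2
  · have h1 := hD0.card_mul_card
    rw [hcardQ'] at h1
    rw [Subgroup.card_map_of_injective (Subgroup.normalizer (Q : Set G)).subtype_injective]
    exact h1

/-- (D1) plus case (`q = 2k+1`): `N(C(z)) = C(z) ⊔ K` for a suitable `q`-element `z`. -/
theorem d_normalizer_Q_plus {G : Type*} [Group G] [Finite G] {t s : G} {K : Subgroup G} {q d : ℕ}
    (c : Ctx t s K q d) (A0 : FactsA0 t s K) (A1 : FactsA1 t s K)
    (B : FactsB t s K q d) (C : FactsC t s K q d) (hq : q = 2 * Nat.card K + 1) :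
    ∃ z : G, z ≠ 1 ∧ (orderOf z).Coprime (2 * Nat.card K * d) ∧
      Subgroup.normalizer ((Subgroup.centralizer ({z} : Set G) : Subgroup G) : Set G) =
        Subgroup.centralizer ({z} : Set G) ⊔ K := by
  classical
  have hd : d = Nat.card K + 1 := by
    rcases c.sign with ⟨_, h2⟩ | ⟨h1, _⟩
    · exact h2
    · omega
  obtain ⟨hqodd, hdodd, hq2k, hd2k, hqd, hq2, hd3, hq7⟩ := B.arith
  obtain ⟨z₀, hz₀1, hz₀c⟩ := B.exists_Q
  have hQcard : Nat.card (Subgroup.centralizer ({z₀} : Set G)) = q := B.card_cent_Q z₀ hz₀1 hz₀c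
  have hqpos : 0 < q := by omega
  have hNcard : Nat.card (Subgroup.normalizer
      ((Subgroup.centralizer ({z₀} : Set G) : Subgroup G) : Set G)) = Nat.card K * q := by
    have h1 := C.card_normalizer_Q z₀ hz₀1 hz₀c
    have h2 := c.card
    have h3 : Nat.card (Subgroup.normalizer
        ((Subgroup.centralizer ({z₀} : Set G) : Subgroup G) : Set G)) * (q + 1) =
        (Nat.card K * q) * (q + 1) := by
      rw [h1, h2, hd]
      have : q + 1 = 2 * (Nat.card K + 1) := by omega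
      rw [this]
      ring
    exact Nat.eq_of_mul_eq_mul_right (Nat.succ_pos q) h3
  have hqk : q.Coprime (Nat.card K) := Nat.Coprime.coprime_dvd_right (dvd_mul_left _ _) hq2k
  obtain ⟨D', hD'N, hQD, hsup, hcardmul⟩ :=
    exists_complement_in_normalizer (Subgroup.centralizer ({z₀} : Set G)) (by
      rw [hQcard, hNcard, Nat.mul_div_cancel _ hqpos]
      exact hqk)
  have hD'card : Nat.card D' = Nat.card K := by
    rw [hQcard, hNcard, mul_comm] at hcardmul
    exact Nat.eq_of_mul_eq_mul_right hqpos hcardmul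
  have hz₀Q : z₀ ∈ Subgroup.centralizer ({z₀} : Set G) :=
    Subgroup.mem_centralizer_singleton_iff.mpr rfl
  -- involutions of `D'` invert `Q`
  have F1 : ∀ b ∈ D', orderOf b = 2 →
      ∀ x ∈ Subgroup.centralizer ({z₀} : Set G), b * x * b⁻¹ = x⁻¹ := by
    intro b hb hb2
    have hbb : b * b = 1 := by
      have := pow_orderOf_eq_one b
      rwa [hb2, pow_two] at this
    have hn : ∀ x ∈ Subgroup.centralizer ({z₀} : Set G),
        b * x * b⁻¹ ∈ Subgroup.centralizer ({z₀} : Set G) :=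
      fun x hx => (Subgroup.mem_normalizer_iff.mp (hD'N hb) x).mp hx
    obtain ⟨u, hu⟩ := isConj_iff.mp (c.hyp.hconj t b c.hyp.ht hb2)
    have hCb : Nat.card (Subgroup.centralizer ({b} : Set G)) = 2 * Nat.card K := by
      rw [← hu, centralizer_conj_eq_map, Subgroup.card_map_of_injective (MulAut.conj u).injective,
        A0.card_cent_t]
    have hfix : Subgroup.centralizer ({z₀} : Set G) ⊓ Subgroup.centralizer ({b} : Set G) = ⊥ := by
      apply Subgroup.eq_bot_of_card_eq
      have h1 : Nat.card ↥(Subgroup.centralizer ({z₀} : Set G) ⊓ Subgroup.centralizer ({b} : Set G))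
          ∣ q := hQcard ▸ Subgroup.card_dvd_of_le inf_le_left
      have h2 : Nat.card ↥(Subgroup.centralizer ({z₀} : Set G) ⊓ Subgroup.centralizer ({b} : Set G))
          ∣ 2 * Nat.card K := hCb ▸ Subgroup.card_dvd_of_le inf_le_right
      exact Nat.Coprime.eq_one_of_dvd (Nat.Coprime.coprime_dvd_left h1 hq2k) h2
    exact inverts_of_normalizes _ b hbb hn hfix
  -- an involution in `D'`
  have h2D : 2 ∣ Nat.card D' := hD'card ▸ A0.two_dvd_card_K
  have hfact2 : Fact (Nat.Prime 2) := ⟨Nat.prime_two⟩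
  obtain ⟨a0, ha0⟩ := exists_prime_orderOf_dvd_card' (G := D') 2 h2D
  have haD : (a0 : G) ∈ D' := a0.2
  have ha2 : orderOf (a0 : G) = 2 := by rw [Subgroup.orderOf_coe]; exact ha0
  have haa : (a0 : G) * (a0 : G) = 1 := by
    have := pow_orderOf_eq_one (a0 : G)
    rwa [ha2, pow_two] at this
  -- uniqueness
  have F2 : ∀ b ∈ D', orderOf b = 2 → b = (a0 : G) := by
    intro b hb hb2
    have h1 := F1 b hb hb2 z₀ hz₀Q
    have h2 := F1 (a0 : G) haD ha2 z₀ hz₀Q
    have hab : (a0 : G) * b ∈ Subgroup.centralizer ({z₀} : Set G) := by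
      rw [Subgroup.mem_centralizer_singleton_iff]
      have h3 : (a0 : G) * b * z₀ * ((a0 : G) * b)⁻¹ = z₀ := by
        calc (a0 : G) * b * z₀ * ((a0 : G) * b)⁻¹ = (a0 : G) * (b * z₀ * b⁻¹) * (a0 : G)⁻¹ := by group
          _ = (a0 : G) * z₀⁻¹ * (a0 : G)⁻¹ := by rw [h1]
          _ = ((a0 : G) * z₀ * (a0 : G)⁻¹)⁻¹ := by group
          _ = z₀ := by rw [h2, inv_inv]
      calc (a0 : G) * b * z₀ = ((a0 : G) * b * z₀ * ((a0 : G) * b)⁻¹) * ((a0 : G) * b) := by group
        _ = z₀ * ((a0 : G) * b) := by rw [h3]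
    have hab2 : (a0 : G) * b ∈ Subgroup.centralizer ({z₀} : Set G) ⊓ D' :=
      ⟨hab, D'.mul_mem haD hb⟩
    rw [hQD, Subgroup.mem_bot] at hab2
    have hb' : b = (a0 : G)⁻¹ := (eq_inv_of_mul_eq_one_right hab2)
    rw [hb', inv_eq_of_mul_eq_one_right haa]
  -- `D'` centralizes `a`
  have F3 : ∀ g ∈ D', g * (a0 : G) = (a0 : G) * g := by
    intro g hg
    have h1 : g * (a0 : G) * g⁻¹ ∈ D' := D'.mul_mem (D'.mul_mem hg haD) (D'.inv_mem hg)
    have h2 : orderOf (g * (a0 : G) * g⁻¹) = 2 := by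
      have := (MulAut.conj g).orderOf_eq (a0 : G)
      rw [MulAut.conj_apply] at this
      rw [this, ha2]
    have h3 := F2 _ h1 h2
    calc g * (a0 : G) = (g * (a0 : G) * g⁻¹) * g := by group
      _ = (a0 : G) * g := by rw [h3]
  -- conjugate `a` to `t`
  obtain ⟨w, hw⟩ := isConj_iff.mp (c.hyp.hconj (a0 : G) t ha2 c.hyp.ht)
  have F4 : ∀ g ∈ D', w * g * w⁻¹ ∈ K := by
    intro g hg
    have hg' : w * g * w⁻¹ ∈ Subgroup.centralizer ({t} : Set G) := by
      rw [Subgroup.mem_centralizer_singleton_iff, ← hw]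
      calc w * g * w⁻¹ * (w * (a0 : G) * w⁻¹) = w * (g * (a0 : G)) * w⁻¹ := by group
        _ = w * ((a0 : G) * g) * w⁻¹ := by rw [F3 g hg]
        _ = w * (a0 : G) * w⁻¹ * (w * g * w⁻¹) := by group
    rcases A0.mem_cent_t_cases _ hg' with hK | ⟨y, hy, hgy⟩
    · exact hK
    · exfalso
      have h1 : orderOf (w * g * w⁻¹) = 2 := by rw [hgy]; exact A0.orderOf_s_mul y hy
      have h2 : orderOf g = 2 := by
        have := (MulAut.conj w).orderOf_eq g
        rw [MulAut.conj_apply] at this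
        rw [← this, h1]
      have h3 := F2 g hg h2
      rw [h3, hw] at hgy
      apply c.hyp.hsK
      have h4 : s = t * y⁻¹ := by rw [hgy]; group
      rw [h4]
      exact K.mul_mem c.hyp.htK (K.inv_mem hy)
  have F5 : D'.map (MulAut.conj w).toMonoidHom = K := by
    have : Finite K := inferInstance
    apply Subgroup.eq_of_le_of_card_ge
    · rintro _ ⟨g, hg, rfl⟩
      exact F4 g hg
    · rw [Subgroup.card_map_of_injective (MulAut.conj w).injective, hD'card]
  refine ⟨w * z₀ * w⁻¹, ?_, ?_, ?_⟩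
  · intro h1
    exact hz₀1 (conj_eq_one_iff.mp h1)
  · have := (MulAut.conj w).orderOf_eq z₀
    rw [MulAut.conj_apply] at this
    rw [this]
    exact hz₀c
  · rw [centralizer_conj_eq_map,
      ← Subgroup.map_normalizer_eq_of_bijective _ (MulAut.conj w).bijective, ← hsup,
      Subgroup.map_sup, F5]

end Cfsg.Agent.Helper48.BSW
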