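import Mathlib
import Cfsg.Agent.Helper71.BSW.Defs
import Cfsg.Agent.Helper48.BSW.D1
import Cfsg.Agent.Helper60.BSW.C2

/-!
# (D2) minus case: `N(C(z)) = C(z) ⊔ C(y)` (piece for S3282, helper71)
-/

set_option autoImplicit false

namespace Cfsg.Agent.Helper48.BSW

open Cfsg.Agent.Helper71.BSW

/-- (D2) minus case (`q = 2k-1`): `N(C(z)) = C(z) ⊔ C(y)`. -/
theorem d_normalizer_Q_minus {G : Type*} [Group G] [Finite G] {t s : G} {K : Subgroup G} {q d : ℕ}
    (c : Ctx t s K q d) (A0 : FactsA0 t s K) (A1 : FactsA1 t s K)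
    (B : FactsB t s K q d) (C : FactsC t s K q d) (hq : q + 1 = 2 * Nat.card K) :
    ∃ z y : G, z ≠ 1 ∧ (orderOf z).Coprime (2 * Nat.card K * d) ∧ y ≠ 1 ∧
      (orderOf y).Coprime (2 * Nat.card K * q) ∧
      Subgroup.normalizer ((Subgroup.centralizer ({z} : Set G) : Subgroup G) : Set G) =
        Subgroup.centralizer ({z} : Set G) ⊔ Subgroup.centralizer ({y} : Set G) := by
  classical
  obtain ⟨hqodd, hdodd, hq2k, hd2k, hqd, hq2, hd3, hq7⟩ := B.arith
  obtain ⟨z, hz1, hzc⟩ := B.exists_Q
  have hQcard : Nat.card (Subgroup.centralizer ({z} : Set G)) = q := B.card_cent_Q z hz1 hzc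
  have hqpos : 0 < q := by omega
  have hNcard : Nat.card (Subgroup.normalizer
      ((Subgroup.centralizer ({z} : Set G) : Subgroup G) : Set G)) = q * d := by
    have h1 := C.card_normalizer_Q z hz1 hzc
    have h2 := c.card
    have h3 : Nat.card (Subgroup.normalizer
        ((Subgroup.centralizer ({z} : Set G) : Subgroup G) : Set G)) * (q + 1) =
        (q * d) * (q + 1) := by
      rw [h1, h2, hq]
      ring
    exact Nat.eq_of_mul_eq_mul_right (Nat.succ_pos q) h3
  obtain ⟨D', hD'N, hQD, hsup, hcardmul⟩ :=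
    exists_complement_in_normalizer (Subgroup.centralizer ({z} : Set G)) (by
      rw [hQcard, hNcard, Nat.mul_div_cancel_left _ hqpos]
      exact hqd)
  have hD'card : Nat.card D' = d := by
    rw [hQcard, hNcard] at hcardmul
    exact Nat.eq_of_mul_eq_mul_left hqpos hcardmul
  have hord : ∀ g ∈ D', orderOf g ∣ d := by
    intro g hg
    rw [← hD'card]
    exact Subgroup.orderOf_dvd_natCard D' hg
  have hd2kq : d.Coprime (2 * Nat.card K * q) := Nat.Coprime.mul_right hd2k hqd.symm
  -- the group `D'` is nilpotent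
  have hnil : Group.IsNilpotent ↥D' := by
    apply ((Group.isNilpotent_of_finite_tfae (G := ↥D')).out 3 0).mp
    intro p hp P
    obtain ⟨M, hM⟩ := Cfsg.Agent.Helper60.BSW.normal_sylow_of_transfer (L := ↥D') p (by
      intro ℓ hℓ _ A g hg
      rw [Subgroup.mem_centralizer_iff]
      intro a ha
      by_cases hcase : ℓ = 2 ∨ ℓ ∣ q
      · -- then `A` is trivial
        have hℓd : ¬ ℓ ∣ d := by
          rcases hcase with h2 | hℓq
          · subst h2
            intro h3
            exact (Nat.not_even_iff_odd.mpr hdodd) (even_iff_two_dvd.mpr h3)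
          · intro h3
            have := Nat.Coprime.eq_one_of_dvd (Nat.Coprime.coprime_dvd_left hℓq hqd) h3
            exact hℓ.out.one_lt.ne' this
        have hA1 : Nat.card ↥(A : Subgroup ↥D') = 1 := by
          rw [A.card_eq_multiplicity, hD'card, Nat.factorization_eq_zero_of_not_dvd hℓd, pow_zero]
        have hAbot := Subgroup.eq_bot_of_card_eq _ hA1
        have ha1 : a = 1 := by
          have : a ∈ (A : Subgroup ↥D') := ha
          rwa [hAbot, Subgroup.mem_bot] at this
        rw [ha1, one_mul, mul_one]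
      · push Not at hcase
        have hgn : (g : G) ∈ Subgroup.normalizer
            (((A : Subgroup ↥D').map D'.subtype : Subgroup G) : Set G) := by
          rw [Subgroup.mem_normalizer_iff]
          intro x
          constructor
          · rintro ⟨a', ha', rfl⟩
            exact ⟨g * a' * g⁻¹, (Subgroup.mem_normalizer_iff.mp hg a').mp ha', rfl⟩
          · rintro ⟨a', ha', hx⟩
            refine ⟨g⁻¹ * a' * g, ?_, ?_⟩
            · have h5 : g * (g⁻¹ * a' * g) * g⁻¹ = a' := by group
              exact (Subgroup.mem_normalizer_iff.mp hg (g⁻¹ * a' * g)).mpr (by rw [h5]; exact ha')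
            · have hx' : ((a' : ↥D') : G) = (g : G) * x * (g : G)⁻¹ := hx
              show ((g⁻¹ * a' * g : ↥D') : G) = x
              rw [Subgroup.coe_mul, Subgroup.coe_mul, Subgroup.coe_inv, hx']
              group
        have hgodd : Odd (orderOf (g : G)) := Odd.of_dvd_nat hdodd (hord _ g.2)
        have hcent := B.odd_normalizer_centralizes ℓ hℓ.out hcase.1 hcase.2
          ((A : Subgroup ↥D').map D'.subtype) (A.isPGroup'.map D'.subtype) (g : G) hgn hgodd
        rw [Subgroup.mem_centralizer_iff] at hcent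
        apply Subtype.ext
        exact hcent (a : G) ⟨a, ha, rfl⟩)
    obtain ⟨g, hg⟩ := MulAction.exists_smul_eq ↥D' M P
    rw [← hg, Sylow.smul_eq_of_normal]
    exact hM
  have hnt : Nontrivial ↥D' := by
    rw [← Finite.one_lt_card_iff_nontrivial, hD'card]
    omega
  obtain ⟨y0, hy0⟩ := (Subgroup.ne_bot_iff_exists_ne_one).mp (Group.IsNilpotent.center_ne_bot ↥D')
  have hy1 : ((y0 : ↥D') : G) ≠ 1 := by
    intro h1
    apply hy0
    apply Subtype.ext
    apply Subtype.ext
    exact h1
  have hyD : ((y0 : ↥D') : G) ∈ D' := (y0 : ↥D').2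
  have hyc : (orderOf ((y0 : ↥D') : G)).Coprime (2 * Nat.card K * q) :=
    Nat.Coprime.coprime_dvd_left (hord _ hyD) hd2kq
  have hle : D' ≤ Subgroup.centralizer ({((y0 : ↥D') : G)} : Set G) := by
    intro g hg
    rw [Subgroup.mem_centralizer_singleton_iff]
    exact congrArg Subtype.val (Subgroup.mem_center_iff.mp y0.2 ⟨g, hg⟩)
  have hCy : Nat.card (Subgroup.centralizer ({((y0 : ↥D') : G)} : Set G)) = d :=
    (B.card_cent_D _ hy1 hyc).1
  have hDeq : D' = Subgroup.centralizer ({((y0 : ↥D') : G)} : Set G) :=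
    Subgroup.eq_of_le_of_card_ge hle (by rw [hD'card, hCy])
  refine ⟨z, ((y0 : ↥D') : G), hz1, hzc, hy1, hyc, ?_⟩
  rw [← hsup, ← hDeq]

end Cfsg.Agent.Helper48.BSW
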