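import Mathlib
import Cfsg.Agent.Helper71.BSW.DefsCT

/-!
# (T2) `theta K μ` on `K`: `(1_K - μ)^G (y) = 2 - μ y - μ y⁻¹` (piece for S3282, helper71)
-/

set_option autoImplicit false

namespace Cfsg.Agent.Helper48.BSW

open Cfsg Cfsg.Agent.Helper71.BSW
open scoped ComplexConjugate

theorem t_theta_mem {G : Type*} [Group G] [Fintype G] [Fintype (IrrCharacter G)] {t s : G} {K : Subgroup G}
    [Fintype ↥K] [Fintype (↥K →* ℂˣ)]
    (h : Hyp t s K) (A0 : FactsA0 t s K)
    :
    ∀ (μ : K →* ℂˣ) (y : K), (y : G) ≠ 1 →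
    theta K μ (y : G) = 2 - ((μ y : ℂˣ) : ℂ) - ((μ y⁻¹ : ℂˣ) : ℂ) := by
  classical
  intro μ y hy1
  have hyK : (y : G) ∈ K := y.2
  -- pointwise evaluation of the summand
  have hpt : ∀ x : G, extendByZero K (fun y : K => 1 - ((μ y : ℂˣ) : ℂ)) (x⁻¹ * (y : G) * x) =
      (if x ∈ K then (1 - ((μ y : ℂˣ) : ℂ)) else 0) +
        (if x ∈ Subgroup.centralizer ({t} : Set G) ∧ x ∉ K then (1 - ((μ y⁻¹ : ℂˣ) : ℂ)) else 0) := by
    intro x
    by_cases hxK : x ∈ K
    · have hconj : x⁻¹ * (y : G) * x = (y : G) := by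
        rw [mul_assoc, h.hKab _ hyK _ hxK, ← mul_assoc, inv_mul_cancel, one_mul]
      rw [hconj, if_pos hxK, if_neg (fun hh => hh.2 hxK), add_zero]
      exact Subtype.val_injective.extend_apply (fun y : K => 1 - ((μ y : ℂˣ) : ℂ)) 0 y
    · rw [if_neg hxK, zero_add]
      by_cases hxC : x ∈ Subgroup.centralizer ({t} : Set G)
      · rw [if_pos ⟨hxC, hxK⟩]
        rcases A0.mem_cent_t_cases x hxC with hK | ⟨x₀, hx₀, rfl⟩
        · exact absurd hK hxK
        · have hinv := A0.s_mul_inverts x₀ hx₀ ((y⁻¹ : K) : G) (y⁻¹ : K).2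
          have hconj : (s * x₀)⁻¹ * (y : G) * (s * x₀) = ((y⁻¹ : K) : G) := by
            have h2 : (((y⁻¹ : K) : G))⁻¹ = (y : G) := by
              rw [Subgroup.coe_inv, inv_inv]
            rw [h2] at hinv
            rw [← hinv]
            group
          rw [hconj]
          exact Subtype.val_injective.extend_apply (fun y : K => 1 - ((μ y : ℂˣ) : ℂ)) 0 y⁻¹
      · rw [if_neg (fun hh => hxC hh.1)]
        have hnot : x⁻¹ * (y : G) * x ∉ K := by
          intro hmem
          apply hxC
          have h3 := A0.mem_cent_t_of_conj_mem (y : G) hyK hy1 x⁻¹ (by rwa [inv_inv])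
          have h4 := Subgroup.inv_mem _ h3
          rwa [inv_inv] at h4
        exact Function.extend_apply' _ _ _ (by
          rintro ⟨k, hk⟩
          exact hnot (hk ▸ k.2))
  -- cardinalities
  have hcK : (Finset.univ.filter (fun x : G => x ∈ K)).card = Nat.card K := by
    rw [Nat.card_eq_fintype_card, Fintype.card_subtype]
  have hcC : (Finset.univ.filter (fun x : G => x ∈ Subgroup.centralizer ({t} : Set G))).card =
      2 * Nat.card K := by
    rw [← A0.card_cent_t]
    have : Fintype ↥(Subgroup.centralizer ({t} : Set G)) := Fintype.ofFinite _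
    rw [Nat.card_eq_fintype_card, Fintype.card_subtype]
  have hcD : (Finset.univ.filter
      (fun x : G => x ∈ Subgroup.centralizer ({t} : Set G) ∧ x ∉ K)).card = Nat.card K := by
    have hsub : Finset.univ.filter (fun x : G => x ∈ K) ⊆
        Finset.univ.filter (fun x : G => x ∈ Subgroup.centralizer ({t} : Set G)) := by
      intro x hx
      simp only [Finset.mem_filter, Finset.mem_univ, true_and] at hx ⊢
      exact h.hKH hx
    have heq : Finset.univ.filter
        (fun x : G => x ∈ Subgroup.centralizer ({t} : Set G) ∧ x ∉ K) =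
        Finset.univ.filter (fun x : G => x ∈ Subgroup.centralizer ({t} : Set G)) \
          Finset.univ.filter (fun x : G => x ∈ K) := by
      ext x
      simp only [Finset.mem_filter, Finset.mem_univ, true_and, Finset.mem_sdiff]
    rw [heq, Finset.card_sdiff_of_subset hsub, hcC, hcK]
    omega
  have hKne : (Nat.card K : ℂ) ≠ 0 := by
    exact_mod_cast (Nat.card_pos (α := ↥K)).ne'
  show (Nat.card K : ℂ)⁻¹ * ∑ x : G,
      extendByZero K (fun y : K => 1 - ((μ y : ℂˣ) : ℂ)) (x⁻¹ * (y : G) * x) = _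
  simp_rw [hpt]
  rw [Finset.sum_add_distrib, ← Finset.sum_filter, ← Finset.sum_filter, Finset.sum_const,
    Finset.sum_const, hcK, hcD, nsmul_eq_mul, nsmul_eq_mul]
  field_simp
  ring

end Cfsg.Agent.Helper48.BSW
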