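import Mathlib
import Cfsg.Agent.Helper71.BSW.DefsCT

/-!
# (T4a) inner products of the `theta K μ` (piece for S3282, helper71)
-/

set_option autoImplicit false

namespace Cfsg.Agent.Helper48.BSW

open Cfsg Cfsg.Agent.Helper71.BSW
open scoped ComplexConjugate

/-- Complex conjugate of a value of a linear character of a finite group. -/
theorem conj_linChar_apply {K : Type*} [Group K] [Fintype K] (ν : K →* ℂˣ) (y : K) :
    conj ((ν y : ℂˣ) : ℂ) = ((ν y⁻¹ : ℂˣ) : ℂ) := by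
  have hpow : ((ν y : ℂˣ) : ℂ) ^ (Fintype.card K) = 1 := by
    rw [← Units.val_pow_eq_pow_val, ← map_pow, pow_card_eq_one, map_one, Units.val_one]
  have hnorm : ‖((ν y : ℂˣ) : ℂ)‖ = 1 :=
    Complex.norm_eq_one_of_pow_eq_one hpow Fintype.card_pos.ne'
  rw [map_inv, Units.val_inv_eq_inv_val]
  exact (Complex.inv_eq_conj hnorm).symm

theorem ind_inv_left {K : Type*} [Group K] (μ ν : K →* ℂˣ) : ind μ⁻¹ ν = ind μ ν⁻¹ := by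
  have key : μ⁻¹ = ν ↔ μ = ν⁻¹ := by
    constructor
    · intro h2
      ext y
      rw [← h2]
      simp
    · intro h2
      ext y
      rw [h2]
      simp
  by_cases hh : μ = ν⁻¹
  · rw [ind_of_eq hh, ind_of_eq (key.mpr hh)]
  · rw [ind_of_ne hh, ind_of_ne (fun h2 => hh (key.mp h2))]

theorem ind_symm' {α : Type*} (a b : α) : ind a b = ind b a := by
  by_cases hh : a = b
  · rw [ind_of_eq hh, ind_of_eq hh.symm]
  · rw [ind_of_ne hh, ind_of_ne (fun h2 => hh h2.symm)]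

set_option linter.unusedVariables false in
theorem t_inner_theta {G : Type*} [Group G] [Fintype G] [Fintype (IrrCharacter G)] {t s : G} {K : Subgroup G}
    [Fintype ↥K] [Fintype (↥K →* ℂˣ)]
    (h : Hyp t s K)
    (h_theta_one : ∀ μ : K →* ℂˣ, theta K μ 1 = 0)
    (h_theta_conj : ∀ (μ : K →* ℂˣ) (g x : G), theta K μ (x * g * x⁻¹) = theta K μ g)
    (h_theta_mem : ∀ (μ : K →* ℂˣ) (y : K), (y : G) ≠ 1 →
    theta K μ (y : G) = 2 - ((μ y : ℂˣ) : ℂ) - ((μ y⁻¹ : ℂˣ) : ℂ))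
    (h_theta_off : ∀ (μ : K →* ℂˣ) (g : G), (∀ x : G, x * g * x⁻¹ ∉ K) → theta K μ g = 0)
    (h_sum_TI : ∀ F : G → ℂ, (∀ g x : G, F (x * g * x⁻¹) = F g) →
    (∀ g : G, (∀ x : G, x * g * x⁻¹ ∉ K) → F g = 0) →
    ∑ g : G, F g = F 1 + (Nat.card G : ℂ) / (2 * (Nat.card K : ℂ)) *
      ∑ y : K, (1 - ind (y : G) 1) * F (y : G))
    (h_orth_dual : ∀ μ ν : K →* ℂˣ,
    ∑ y : K, ((μ y : ℂˣ) : ℂ) * ((ν y⁻¹ : ℂˣ) : ℂ) = (Nat.card K : ℂ) * ind μ ν)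
    (h_sum_dual : ∀ y : K, y ≠ 1 → ∑ μ : K →* ℂˣ, ((μ y : ℂˣ) : ℂ) = 0)
    :
    ∀ μ ν : K →* ℂˣ, μ ≠ 1 → ν ≠ 1 →
    classInner (theta K μ) (theta K ν) = 2 + ind μ ν + ind μ ν⁻¹ := by
  classical
  intro μ ν hμ hν
  have hGne : (Nat.card G : ℂ) ≠ 0 := by
    exact_mod_cast (Nat.card_pos (α := G)).ne'
  have hKne : (Nat.card K : ℂ) ≠ 0 := by
    exact_mod_cast (Nat.card_pos (α := ↥K)).ne'
  -- the class function F
  have hF := h_sum_TI (fun g => theta K μ g * conj (theta K ν g))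
    (fun g x => by
      show theta K μ (x * g * x⁻¹) * conj (theta K ν (x * g * x⁻¹)) = _
      rw [h_theta_conj, h_theta_conj])
    (fun g hg => by
      show theta K μ g * conj (theta K ν g) = 0
      rw [h_theta_off μ g hg, zero_mul])
  simp only [h_theta_one, zero_mul, zero_add] at hF
  -- the summands on K
  have hterm : ∀ y : K, (1 - ind (y : G) 1) * (theta K μ (y : G) * conj (theta K ν (y : G))) =
      (2 - ((μ y : ℂˣ) : ℂ) - ((μ y⁻¹ : ℂˣ) : ℂ)) *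
        (2 - ((ν y⁻¹ : ℂˣ) : ℂ) - ((ν y : ℂˣ) : ℂ)) := by
    intro y
    by_cases hy : (y : G) = 1
    · have hy' : y = 1 := Subtype.ext hy
      rw [ind_of_eq hy]
      subst hy'
      norm_num
    · rw [ind_of_ne hy, h_theta_mem μ y hy, h_theta_mem ν y hy, map_sub, map_sub,
        conj_linChar_apply, conj_linChar_apply, inv_inv, sub_zero, one_mul, Complex.conj_ofNat]
  -- basic sums
  have one_apply : ∀ y : K, (((1 : K →* ℂˣ) y : ℂˣ) : ℂ) = 1 := fun y => by simp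
  have s1 : ∀ ρ : K →* ℂˣ, ρ ≠ 1 → ∑ y : K, ((ρ y : ℂˣ) : ℂ) = 0 := by
    intro ρ hρ
    have := h_orth_dual ρ 1
    simp only [one_apply, mul_one] at this
    rw [this, ind_of_ne hρ, mul_zero]
  have s2 : ∀ ρ : K →* ℂˣ, ρ ≠ 1 → ∑ y : K, ((ρ y⁻¹ : ℂˣ) : ℂ) = 0 := by
    intro ρ hρ
    have := h_orth_dual 1 ρ
    simp only [one_apply, one_mul] at this
    rw [this, ind_of_ne (Ne.symm hρ), mul_zero]
  have inv_apply : ∀ (ρ : K →* ℂˣ) (y : K), ((ρ⁻¹ y : ℂˣ) : ℂ) = ((ρ y⁻¹ : ℂˣ) : ℂ) := by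
    intro ρ y
    rw [MonoidHom.inv_apply, map_inv]
  have s3 : ∑ y : K, ((μ y : ℂˣ) : ℂ) * ((ν y : ℂˣ) : ℂ) = (Nat.card K : ℂ) * ind μ ν⁻¹ := by
    rw [← h_orth_dual μ ν⁻¹]
    refine Finset.sum_congr rfl (fun y _ => ?_)
    rw [inv_apply, inv_inv]
  have s4 : ∑ y : K, ((μ y⁻¹ : ℂˣ) : ℂ) * ((ν y⁻¹ : ℂˣ) : ℂ) = (Nat.card K : ℂ) * ind μ ν⁻¹ := by
    rw [← ind_inv_left, ← h_orth_dual μ⁻¹ ν]
    refine Finset.sum_congr rfl (fun y _ => ?_)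
    rw [inv_apply]
  have s5 : ∑ y : K, ((μ y⁻¹ : ℂˣ) : ℂ) * ((ν y : ℂˣ) : ℂ) = (Nat.card K : ℂ) * ind μ ν := by
    rw [ind_symm', ← h_orth_dual ν μ]
    refine Finset.sum_congr rfl (fun y _ => ?_)
    rw [mul_comm]
  have s6 := h_orth_dual μ ν
  have hsum : ∑ y : K, (2 - ((μ y : ℂˣ) : ℂ) - ((μ y⁻¹ : ℂˣ) : ℂ)) *
        (2 - ((ν y⁻¹ : ℂˣ) : ℂ) - ((ν y : ℂˣ) : ℂ)) =
      4 * (Nat.card K : ℂ) + 2 * (Nat.card K : ℂ) * ind μ ν + 2 * (Nat.card K : ℂ) * ind μ ν⁻¹ := by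
    have hexp : ∀ y : K, (2 - ((μ y : ℂˣ) : ℂ) - ((μ y⁻¹ : ℂˣ) : ℂ)) *
        (2 - ((ν y⁻¹ : ℂˣ) : ℂ) - ((ν y : ℂˣ) : ℂ)) =
        4 - 2 * ((ν y⁻¹ : ℂˣ) : ℂ) - 2 * ((ν y : ℂˣ) : ℂ) - 2 * ((μ y : ℂˣ) : ℂ)
          - 2 * ((μ y⁻¹ : ℂˣ) : ℂ)
          + ((μ y : ℂˣ) : ℂ) * ((ν y⁻¹ : ℂˣ) : ℂ) + ((μ y : ℂˣ) : ℂ) * ((ν y : ℂˣ) : ℂ)
          + ((μ y⁻¹ : ℂˣ) : ℂ) * ((ν y⁻¹ : ℂˣ) : ℂ) + ((μ y⁻¹ : ℂˣ) : ℂ) * ((ν y : ℂˣ) : ℂ) := by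
      intro y; ring
    simp_rw [hexp]
    simp only [Finset.sum_add_distrib, Finset.sum_sub_distrib, ← Finset.mul_sum, s1 μ hμ, s1 ν hν,
      s2 μ hμ, s2 ν hν, s3, s4, s5, s6, Finset.sum_const, Finset.card_univ, nsmul_eq_mul]
    rw [← Nat.card_eq_fintype_card]
    ring
  unfold classInner
  rw [hF]
  simp_rw [hterm]
  rw [hsum]
  field_simp
  ring

end Cfsg.Agent.Helper48.BSW
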